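import Groth.Agent.Lib.Subbundle98.Main
import Groth.Agent.Lib.ProjSpace.Basic

/-! Trivial subbundles on projective space. -/

set_option autoImplicit false
universe u

open CategoryTheory CategoryTheory.Limits AlgebraicGeometry Opposite TopologicalSpace

namespace Groth.Agent.Lib.Subbundle98.Proj

open Groth.Agent.Lib

/-- A globally generated bundle of rank `r` on projective `n`-space has `r - n` sections spanning a
trivial subbundle. -/
theorem exists_subbundle (k : Type u) [Field k] [IsAlgClosed k] {n r : ℕ} (hrn : n ≤ r)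
    {E : (CohB1.ProjSpace n k).Modules} (hE : FlatMod.IsFinLocFreeOfRank r E) {N : ℕ}
    (π : FlatMod.freeMod (CohB1.ProjSpace n k) N ⟶ E) [Epi π] :
    ∃ φ : FlatMod.freeMod (CohB1.ProjSpace n k) (r - n) ⟶ E,
      Mono φ ∧ FlatMod.IsFinLocFreeOfRank n (cokernel φ) := by
  haveI : CompactSpace (CohB1.ProjSpace n k) :=
    QuasiCompact.compactSpace_of_compactSpace (CohB1.ProjSpace.toSpec n k)
  suffices h : ∃ φ : FlatMod.freeMod (CohB1.ProjSpace n k) (r - n) ⟶ E,
      Mono φ ∧ FlatMod.IsFinLocFreeOfRank (r - (r - n)) (cokernel φ) by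
    rwa [show r - (r - n) = n by omega] at h
  refine Main.exists_subbundle (CohB1.ProjSpace.toSpec n k) (n := n) (by omega) hE π fun x => ?_
  obtain ⟨i, hx⟩ := ProjSpace.Basic.exists_mem_opensRange_chartι (R := k) n x
  let ι := ProjSpace.Basic.chartι k i
  let e := (Scheme.ΓSpecIso (CommRingCat.of (MvPolynomial (Fin n) k))).symm ≪≫ (ι.appIso ⊤).symm
  refine ⟨ι ''ᵁ ⊤, (isAffineOpen_top _).image_of_isOpenImmersion ι, ?_, e.commRingCatIsoToRingEquiv, fun a => ?_⟩
  · rw [Scheme.Hom.image_top_eq_opensRange]; exact hx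
  · show e.hom (MvPolynomial.C a) = _
    apply (ι.appIso ⊤).commRingCatIsoToRingEquiv.injective
    show (ι.appIso ⊤).hom ((ι.appIso ⊤).inv ((Scheme.ΓSpecIso _).inv (MvPolynomial.C a))) = _
    rw [Iso.inv_hom_id_apply]
    have h1 : ι.appLE (ι ''ᵁ ⊤) ⊤ (by rw [Scheme.Hom.preimage_image_eq]) =
        (ι.appIso ⊤).hom := (Scheme.Hom.appIso_hom' ι ⊤).symm
    show _ = (ι.appIso ⊤).hom _
    rw [← h1]
    have h2 := Scheme.Hom.appLE_comp_appLE ι (CohB1.ProjSpace.toSpec n k) ⊤ (ι ''ᵁ ⊤) ⊤ (le_top)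
      (by rw [Scheme.Hom.preimage_image_eq])
    have h3 : (ι ≫ CohB1.ProjSpace.toSpec n k).appLE ⊤ ⊤ le_top =
        (Spec.map (CommRingCat.ofHom (MvPolynomial.C : k →+* MvPolynomial (Fin n) k))).appLE ⊤ ⊤ le_top := by
      simp only [ι, ProjSpace.Basic.chartι_toSpec]
    have h4 := congr($(h2.trans h3) ((Scheme.ΓSpecIso (CommRingCat.of k)).inv a))
    refine Eq.trans ?_ h4.symm
    have h5 := congr($(Scheme.ΓSpecIso_inv_naturality
      (CommRingCat.ofHom (MvPolynomial.C : k →+* MvPolynomial (Fin n) k))) a)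
    refine h5.trans ?_
    show _ = (Scheme.Hom.appLE (Spec.map (CommRingCat.ofHom (MvPolynomial.C : k →+* MvPolynomial (Fin n) k)))
      ⊤ (Spec.map (CommRingCat.ofHom (MvPolynomial.C : k →+* MvPolynomial (Fin n) k)) ⁻¹ᵁ ⊤) le_rfl) _
    rw [← Scheme.Hom.app_eq_appLE]
    rfl

end Groth.Agent.Lib.Subbundle98.Proj
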